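import Groth.Agent.Lib.HensFib6.TensorClosed
import Groth.Agent.Lib.NormalBC6.TensorField
import Groth.Agent.Lib.GRing6.Nagata
import Groth.Agent.Lib.GRing6.FiniteDomains
import Groth.Agent.Lib.HensH7.Integral
import Groth.Agent.Lib.CplLocH7.Basic
import Mathlib

/-! # Formal fibres of henselian local rings -/

set_option autoImplicit false
set_option linter.style.haveILetI false
universe u

open TensorProduct IsLocalRing

namespace Groth.Agent.HensFib6

/-- The normalization of a quotient in a finite extension of its fraction field. -/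
theorem exists_normalization (A : Type u) [CommRing A] [HenselianLocalRing A] (hA : CAlg.IsNagata A)
    (p : Ideal A) [p.IsPrime] (L : Type u) [Field L] [Algebra p.ResidueField L] [Module.Finite p.ResidueField L]
    [Algebra A L] [IsScalarTower A p.ResidueField L] :
    ∃ N : Subalgebra A L, Module.Finite A N ∧ IsFractionRing N L ∧ IsIntegrallyClosed N ∧ IsLocalRing N ∧
      ∀ x : L, IsIntegral A x → x ∈ N := by
  letI : Algebra (A ⧸ p) L := ((algebraMap p.ResidueField L).comp (algebraMap (A ⧸ p) p.ResidueField)).toAlgebra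
  haveI : IsScalarTower (A ⧸ p) p.ResidueField L := .of_algebraMap_eq fun _ => rfl
  haveI : IsScalarTower A (A ⧸ p) L := .of_algebraMap_eq fun x => by
    rw [IsScalarTower.algebraMap_apply (A ⧸ p) p.ResidueField L, ← IsScalarTower.algebraMap_apply A (A ⧸ p) p.ResidueField,
      ← IsScalarTower.algebraMap_apply]
  let e := FractionRing.algEquiv (A ⧸ p) p.ResidueField
  letI : Algebra (FractionRing (A ⧸ p)) L := ((algebraMap p.ResidueField L).comp e.toAlgHom.toRingHom).toAlgebra
  haveI : IsScalarTower (A ⧸ p) (FractionRing (A ⧸ p)) L := .of_algebraMap_eq fun x => by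
    show algebraMap p.ResidueField L (algebraMap (A ⧸ p) p.ResidueField x) =
      algebraMap p.ResidueField L (e (algebraMap (A ⧸ p) (FractionRing (A ⧸ p)) x))
    rw [e.commutes]
  haveI : FiniteDimensional (FractionRing (A ⧸ p)) L :=
    RingHom.finite_algebraMap.1 (show (algebraMap (FractionRing (A ⧸ p)) L).Finite from
      RingHom.Finite.comp (RingHom.finite_algebraMap.2 inferInstance) (RingHom.Finite.of_surjective _ e.surjective))
  haveI hfin : Module.Finite (A ⧸ p) (integralClosure (A ⧸ p) L) := hA.2 p L inferInstance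
  haveI : Module.Finite A (A ⧸ p) := inferInstance
  let N := integralClosure A L
  have heq : N = (integralClosure (A ⧸ p) L).restrictScalars A := by
    ext x
    exact ⟨fun hx => IsIntegral.tower_top hx, fun hx => isIntegral_trans (A := A ⧸ p) x hx⟩
  haveI : Module.Finite A N := Module.Finite.iff_fg.2 (show (Subalgebra.toSubmodule N).FG by
    rw [heq, Subalgebra.restrictScalars_toSubmodule]
    exact Submodule.FG.restrictScalars ((Module.Finite.iff_fg (N := Subalgebra.toSubmodule
      (integralClosure (A ⧸ p) L))).1 hfin))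
  obtain ⟨B, hB, hBf⟩ := GRing6.exists_finite_domain A p L
  haveI := hBf
  haveI := hB
  have hBN : B ≤ N := fun x hx => (Algebra.IsIntegral.isIntegral (R := A) (⟨x, hx⟩ : B)).map B.val
  haveI : FaithfulSMul N L := (faithfulSMul_iff_algebraMap_injective _ _).2 Subtype.val_injective
  haveI hfr : IsFractionRing N L := IsFractionRing.of_field N L fun z => by
    obtain ⟨a, b, -, hab⟩ := IsFractionRing.div_surjective (A := B) z
    exact ⟨⟨a.1, hBN a.2⟩, ⟨b.1, hBN b.2⟩, hab.symm⟩
  refine ⟨N, inferInstance, hfr, ?_, HensH7.isLocalRing_of_integral_domain A, fun x hx => hx⟩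
  rw [isIntegrallyClosed_iff L]
  intro x hx
  exact ⟨⟨x, isIntegral_trans (A := N) x hx⟩, rfl⟩

variable {A : Type u} [CommRing A] [IsLocalRing A] [IsNoetherianRing A]

/-- A finite local algebra stays local over the completion. -/
theorem isLocalRing_cpl_tensor (N : Type u) [CommRing N] [IsLocalRing N] [Algebra A N] [Module.Finite A N] :
    IsLocalRing (EGA4.Cpl A ⊗[A] N) := by
  haveI : Module.FaithfullyFlat A (EGA4.Cpl A) := CplLocH7.faithfullyFlat_cpl A
  haveI : IsNoetherianRing (EGA4.Cpl A) := CplLocH7.isNoetherianRing_cpl A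
  let C := EGA4.Cpl A
  let D := C ⊗[A] N
  haveI : Nontrivial D := Module.FaithfullyFlat.lTensor_nontrivial A C N
  let φ : N →ₐ[A] D := Algebra.TensorProduct.includeRight
  haveI : Algebra.IsIntegral C D := Algebra.IsIntegral.of_finite C D
  have hM : ∀ (M : Ideal D) [M.IsMaximal], M.comap (algebraMap C D) = maximalIdeal C ∧
      M.comap φ = maximalIdeal N := by
    intro M _
    have h1 : M.comap (algebraMap C D) = maximalIdeal C :=
      IsLocalRing.eq_maximalIdeal (Ideal.isMaximal_comap_of_isIntegral_of_isMaximal (R := C) M)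
    refine ⟨h1, ?_⟩
    haveI : (M.comap φ).IsPrime := Ideal.IsPrime.comap φ
    have h2 : (M.comap φ).comap (algebraMap A N) = maximalIdeal A := by
      refine ((IsLocalRing.maximalIdeal.isMaximal A).eq_of_le (Ideal.IsPrime.ne_top inferInstance) fun a ha => ?_).symm
      show φ (algebraMap A N a) ∈ M
      rw [φ.commutes, IsScalarTower.algebraMap_apply A C D]
      show algebraMap A C a ∈ M.comap (algebraMap C D)
      rw [h1, AdicCompletion.maximalIdeal_eq_map]
      exact Ideal.mem_map_of_mem _ ha
    haveI : Algebra.IsIntegral A N := Algebra.IsIntegral.of_finite A N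
    haveI : (M.comap φ).IsMaximal :=
      Ideal.isMaximal_of_isIntegral_of_isMaximal_comap (R := A) (M.comap φ) (by rw [h2]; exact IsLocalRing.maximalIdeal.isMaximal A)
    exact IsLocalRing.eq_maximalIdeal ‹_›
  have happ : ∀ x : D, ∃ n : N, ∀ (M : Ideal D) [M.IsMaximal], x - φ n ∈ M := by
    intro x
    induction x using TensorProduct.induction_on with
    | zero => exact ⟨0, fun M _ => by simp⟩
    | tmul c n =>
      obtain ⟨a, ha⟩ := CplLocH7.exists_sub_mem_pow (A := A) 1 c
      rw [pow_one] at ha
      refine ⟨a • n, fun M hM' => ?_⟩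
      have : c ⊗ₜ[A] n - φ (a • n) = algebraMap C D (c - algebraMap A C a) * ((1 : C) ⊗ₜ[A] n) := by
        show _ = (c - algebraMap A C a) ⊗ₜ[A] (1 : N) * _
        rw [Algebra.TensorProduct.tmul_mul_tmul, mul_one, one_mul, TensorProduct.sub_tmul]
        congr 1
        show (1 : C) ⊗ₜ[A] (a • n) = _
        rw [Algebra.algebraMap_eq_smul_one, TensorProduct.smul_tmul]
      rw [this]
      exact M.mul_mem_right _ (((hM M).1.symm.le) ha)
    | add x y hx hy =>
      obtain ⟨a, ha⟩ := hx
      obtain ⟨b, hb⟩ := hy
      exact ⟨a + b, fun M _ => by rw [map_add, add_sub_add_comm]; exact add_mem (ha M) (hb M)⟩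
  obtain ⟨M₀, hM₀⟩ := Ideal.exists_maximal D
  refine IsLocalRing.of_unique_max_ideal ⟨M₀, hM₀, fun M hM' => hM'.eq_of_le hM₀.ne_top fun x hx => ?_⟩
  obtain ⟨n, hn⟩ := happ x
  have h1 : n ∈ M.comap φ := by
    show φ n ∈ M
    simpa using sub_mem hx (hn M)
  rw [(hM M).2, ← (hM M₀).2] at h1
  simpa using add_mem (hn M₀) (h1 : φ n ∈ M₀)

end Groth.Agent.HensFib6

namespace Groth.Agent.HensFib6

variable (A : Type u) [CommRing A] [HenselianLocalRing A] [IsNoetherianRing A]

omit [HenselianLocalRing A] in
theorem isDomain_of_isNormalRing_local (R : Type u) [CommRing R] [IsLocalRing R] (h : EGA4.IsNormalRing R) :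
    IsDomain R := by
  haveI := (h (maximalIdeal R)).1
  refine Function.Injective.isDomain (algebraMap R (Localization.AtPrime (maximalIdeal R))) ?_
  exact IsLocalization.injective _ (M := (maximalIdeal R).primeCompl) fun s hs => by
    have : IsUnit s := by
      by_contra hu
      exact (hs : s ∉ maximalIdeal R) ((IsLocalRing.mem_maximalIdeal s).2 hu)
    exact this.mem_nonZeroDivisors

set_option synthInstance.maxHeartbeats 200000 in
theorem isDomain_tensor_finite (h : EGA4.HasGeomNormalFormalFibres A) (p : Ideal A) [p.IsPrime]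
    (L : Type u) [Field L] [Algebra p.ResidueField L] (hL : Module.Finite p.ResidueField L) :
    IsDomain (L ⊗[p.ResidueField] EGA4.formalFibre A p) := by
  haveI : Module.FaithfullyFlat A (EGA4.Cpl A) := CplLocH7.faithfullyFlat_cpl A
  haveI : IsNoetherianRing (EGA4.Cpl A) := CplLocH7.isNoetherianRing_cpl A
  have hnag : CAlg.IsNagata A := GRing6.isNagata_of_local A fun q _ => FlatDepth.geomReduced_of_geomNormal (h q)
  letI : Algebra A L := ((algebraMap p.ResidueField L).comp (algebraMap A p.ResidueField)).toAlgebra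
  haveI : IsScalarTower A p.ResidueField L := .of_algebraMap_eq fun _ => rfl
  obtain ⟨N, hfin, hfr, hic, hloc, -⟩ := exists_normalization A hnag p L
  let C := EGA4.Cpl A
  have hN : EGA4.IsNormalRing N := fun q _ =>
    ⟨inferInstance, isIntegrallyClosed_of_isLocalization (R := N) _ q.primeCompl (Ideal.primeCompl_le_nonZeroDivisors q)⟩
  haveI := isLocalRing_cpl_tensor (A := A) N
  haveI : IsDomain (C ⊗[A] N) := isDomain_of_isNormalRing_local _
    (NormalBC6.isNormalRing_tensor (A := A) (A' := C) ⟨inferInstance, h⟩ N hN)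
  haveI : IsDomain (N ⊗[A] C) := (Algebra.TensorProduct.comm A N C).injective.isDomain
    (Algebra.TensorProduct.comm A N C).toRingEquiv.toRingHom
  have hinj : Function.Injective (algebraMap N (N ⊗[A] C)) := by
    intro x y hxy
    apply Module.FaithfullyFlat.tensorProduct_mk_injective (A := A) (B := C) N
    exact congrArg (Algebra.TensorProduct.comm A N C) hxy
  let D' := (N ⊗[A] C) ⊗[N] L
  haveI : IsLocalization (Algebra.algebraMapSubmonoid (N ⊗[A] C) (nonZeroDivisors N)) D' := by infer_instance
  haveI : IsDomain D' := IsLocalization.isDomain_of_le_nonZeroDivisors D'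
    (M := Algebra.algebraMapSubmonoid (N ⊗[A] C) (nonZeroDivisors N)) (by
      rintro _ ⟨s, hs, rfl⟩
      exact mem_nonZeroDivisors_of_ne_zero fun h0 => nonZeroDivisors.ne_zero hs
        (hinj (h0.trans (map_zero _).symm)))
  let e : L ⊗[p.ResidueField] EGA4.formalFibre A p ≃+* D' :=
    (Algebra.TensorProduct.cancelBaseChange A p.ResidueField L L C).toRingEquiv.trans
      ((Algebra.TensorProduct.cancelBaseChange A N L L C).symm.toRingEquiv.trans
        (Algebra.TensorProduct.comm N L (N ⊗[A] C)).toRingEquiv)
  exact MulEquiv.isDomain D' e.toMulEquiv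

/-- The formal fibres of a henselian ring with geometrically normal formal fibres are geometrically integral. -/
theorem isDomain_fibre (h : EGA4.HasGeomNormalFormalFibres A) (p : Ideal A) [p.IsPrime] (K : Type u) [Field K]
    [Algebra p.ResidueField K] : IsDomain (K ⊗[p.ResidueField] EGA4.formalFibre A p) :=
  isDomain_tensor_of_finite _ (fun L _ _ hL => isDomain_tensor_finite A h p L hL) K

theorem idem_tensor_finite (h : EGA4.HasGeomReducedFormalFibres A) (p : Ideal A) [p.IsPrime]
    (L : Type u) [Field L] [Algebra p.ResidueField L] (hL : Module.Finite p.ResidueField L)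
    (e : L ⊗[p.ResidueField] EGA4.formalFibre A p) (he : IsIdempotentElem e) : e = 0 ∨ e = 1 := by
  haveI : Module.FaithfullyFlat A (EGA4.Cpl A) := CplLocH7.faithfullyFlat_cpl A
  haveI : IsNoetherianRing (EGA4.Cpl A) := CplLocH7.isNoetherianRing_cpl A
  letI : Algebra A L := ((algebraMap p.ResidueField L).comp (algebraMap A p.ResidueField)).toAlgebra
  haveI : IsScalarTower A p.ResidueField L := .of_algebraMap_eq fun _ => rfl
  obtain ⟨N, hfin, hfr, hic, hloc, hmem⟩ := exists_normalization A (GRing6.isNagata_of_local A h) p L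
  let C := EGA4.Cpl A
  let τ : L ⊗[p.ResidueField] EGA4.formalFibre A p ≃+* C ⊗[A] L :=
    (Algebra.TensorProduct.cancelBaseChange A p.ResidueField L L C).toRingEquiv.trans
      (Algebra.TensorProduct.comm A L C).toRingEquiv
  let g := Algebra.TensorProduct.map (AlgHom.id C C) (IsScalarTower.toAlgHom A N L)
  have hg : Function.Injective g :=
    Module.Flat.lTensor_preserves_injective_linearMap (M := C) (IsScalarTower.toAlgHom A N L).toLinearMap
      Subtype.val_injective
  obtain ⟨d, hd⟩ := NormalBC6.mem_range_of_integralElem (A := A) (A' := C) (B := N) (C := L)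
    h (fun c hc => ⟨⟨c, hmem c (isIntegral_trans (A := N) c hc)⟩, rfl⟩) (y := τ e)
    ⟨Polynomial.X ^ 2 - Polynomial.X, Polynomial.monic_X_pow_sub (by simp), by
      rw [Polynomial.eval₂_sub, Polynomial.eval₂_X_pow, Polynomial.eval₂_X, pow_two, ← map_mul, he.eq, sub_self]⟩
  haveI := isLocalRing_cpl_tensor (A := A) N
  have hd' : g d = τ e := hd
  have hdd : IsIdempotentElem d := hg (by rw [map_mul, hd', ← map_mul, he.eq])
  rcases IsLocalRing.isUnit_or_isUnit_one_sub_self d with hu | hu
  · right
    have : d = 1 := (IsIdempotentElem.iff_eq_one_of_isUnit hu).1 hdd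
    exact τ.injective (by rw [← hd', this, map_one, map_one])
  · left
    have : d = 0 := by
      have h1 : (1 - d) * d = 0 := by rw [sub_mul, one_mul, hdd.eq, sub_self]
      exact hu.mul_right_eq_zero.1 h1
    exact τ.injective (by rw [← hd', this, map_zero, map_zero])

/-- The formal fibres of a henselian ring with geometrically reduced formal fibres are geometrically connected. -/
theorem connectedSpace_fibre (h : EGA4.HasGeomReducedFormalFibres A) (K : Type u) [Field K] [Algebra A K] :
    ConnectedSpace (PrimeSpectrum (K ⊗[A] EGA4.Cpl A)) := by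
  haveI : Module.FaithfullyFlat A (EGA4.Cpl A) := CplLocH7.faithfullyFlat_cpl A
  let p := RingHom.ker (algebraMap A K)
  haveI : p.IsPrime := RingHom.ker_isPrime _
  let ι : p.ResidueField →ₐ[A] K := Ideal.ResidueField.liftₐ p (Algebra.ofId A K) (le_of_eq rfl)
    fun x hx => isUnit_iff_ne_zero.2 hx
  letI : Algebra p.ResidueField K := ι.toRingHom.toAlgebra
  haveI : IsScalarTower A p.ResidueField K := .of_algebraMap_eq fun r => (ι.commutes r).symm
  haveI : Nontrivial (EGA4.formalFibre A p) := Module.FaithfullyFlat.rTensor_nontrivial A (EGA4.Cpl A) p.ResidueField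
  haveI := connectedSpace_tensor_of_finite (k := p.ResidueField) (EGA4.formalFibre A p)
    (fun L _ _ hL => idem_tensor_finite A h p L hL) K
  let e := (Algebra.TensorProduct.cancelBaseChange A p.ResidueField K K (EGA4.Cpl A)).toRingEquiv
  exact (PrimeSpectrum.homeomorphOfRingEquiv e).surjective.connectedSpace (PrimeSpectrum.homeomorphOfRingEquiv e).continuous

end Groth.Agent.HensFib6
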