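import Groth.Agent.Lib.HensFib6.HenselNormalGU
import Groth.Agent.Lib.UCat.Completion
import Groth.Agent.S2636
import Mathlib

/-! # Universal catenarity from geometrically normal formal fibres -/

set_option autoImplicit false
set_option linter.style.haveILetI false
universe u
set_option backward.isDefEq.respectTransparency.types false

open IsLocalRing TensorProduct

namespace Groth.Agent.HensFib6

noncomputable local instance (priority := high) cplAlgebra6c (A : Type u) [CommRing A] [IsLocalRing A] :
    Algebra A (EGA4.Cpl A) :=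
  AdicCompletion.instAlgebra _

theorem isEquidim_of_isDomain (R : Type u) [CommRing R] [IsDomain R] : EGA4.IsEquidim R := by
  intro p hp
  rw [IsDomain.minimalPrimes_eq_singleton_bot, Set.mem_singleton_iff] at hp
  subst hp
  exact ringKrullDim_eq_of_ringEquiv (RingEquiv.quotientBot R)

theorem formallyEquidim_of_ringEquiv {A B : Type u} [CommRing A] [IsNoetherianRing A] [IsLocalRing A]
    [CommRing B] [IsNoetherianRing B] [IsLocalRing B] (e : A ≃+* B) (h : EGA4.IsFormallyEquidim A) :
    EGA4.IsFormallyEquidim B := by
  letI := e.toRingHom.toAlgebra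
  let π := FlatDepth.cplQuotHom A B e.surjective
  have hπ : Function.Surjective π := FlatDepth.cplQuotHom_surjective A B e.surjective
  have hk : RingHom.ker π = ⊥ := by
    rw [FlatDepth.ker_cplQuotHom A B e.surjective, show RingHom.ker (algebraMap A B) = ⊥ from
      (RingHom.injective_iff_ker_eq_bot _).1 e.injective, Ideal.map_bot]
  exact UCat.isEquidim_congr (RingEquiv.ofBijective π ⟨(RingHom.injective_iff_ker_eq_bot _).2 hk, hπ⟩) h

theorem normalFibres_of_surjective (A B : Type u) [CommRing A] [IsNoetherianRing A] [IsLocalRing A]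
    [CommRing B] [IsNoetherianRing B] [IsLocalRing B] [Algebra A B] (hs : Function.Surjective (algebraMap A B))
    (h : EGA4.HasGeomNormalFormalFibres A) : EGA4.HasGeomNormalFormalFibres B :=
  haveI : Algebra.FiniteType A B := Algebra.FiniteType.of_surjective (Algebra.ofId A B) hs
  Groth.Agent.S2641.result A h B

theorem universallyCatenary_of_henselian (A : Type u) [CommRing A] [HenselianLocalRing A] [IsNoetherianRing A]
    (h : EGA4.HasGeomNormalFormalFibres A) : CAlg.IsUniversallyCatenary A := by
  refine Groth.Agent.S2636.result A fun p _ => ?_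
  haveI : Nontrivial (A ⧸ p) := inferInstance
  haveI : IsLocalRing (A ⧸ p) := IsLocalRing.of_surjective' (Ideal.Quotient.mk p) Ideal.Quotient.mk_surjective
  haveI : HenselianLocalRing (A ⧸ p) := Hens.henselianLocalRing_of_isIntegral A (A ⧸ p)
  haveI : IsDomain (EGA4.Cpl (A ⧸ p)) :=
    isDomain_cpl (A ⧸ p) (normalFibres_of_surjective A (A ⧸ p) Ideal.Quotient.mk_surjective h)
  exact isEquidim_of_isDomain _

theorem henselization_universallyCatenary (A S : Type u) [CommRing A]
    [IsLocalRing A] [IsNoetherianRing A] [CommRing S] [IsLocalRing S] [Algebra A S]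
    [IsLocalHom (algebraMap A S)] [Hensel.IsHenselization A S]
    (hA : EGA4.HasGeomNormalFormalFibres A) : CAlg.IsUniversallyCatenary S := by
  haveI : IsNoetherianRing S := Groth.Agent.Hens.henselization_isNoetherianRing A S
  haveI : HenselianLocalRing S := Hensel.IsHenselization.henselian (R := A)
  exact universallyCatenary_of_henselian S (henselization_normal_formalFibres A S hA)

theorem universallyCatenary_of_isUnibranch (A : Type u) [CommRing A] [IsLocalRing A] [IsNoetherianRing A]
    (hA : EGA4.HasGeomNormalFormalFibres A) (hu : CAlg2.IsUnibranch A) : CAlg.IsUniversallyCatenary A := by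
  haveI : IsDomain (CAlg2.red A) := hu.1
  haveI : IsLocalRing (CAlg2.red A) := IsLocalRing.of_surjective' (Ideal.Quotient.mk (nilradical A)) Ideal.Quotient.mk_surjective
  have hR := normalFibres_of_surjective A (CAlg2.red A) Ideal.Quotient.mk_surjective hA
  have huR : CAlg2.IsUnibranch (CAlg2.red A) := by
    let K := FractionRing (CAlg2.red A)
    haveI : Algebra.IsIntegral A (CAlg2.red A) :=
      Algebra.IsIntegral.of_surjective (Algebra.ofId A (CAlg2.red A)) Ideal.Quotient.mk_surjective
    obtain ⟨e, -⟩ := Branch14.Bir.exists_closure_equiv (A := A) (B := CAlg2.red A) (K := K)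
    refine (model_fractionRing (CAlg2.red A) K).isUnibranch_iff.2 ?_
    haveI : IsLocalRing (integralClosure A K) := by
      have hM : Branch14.Bir.Model A K := ⟨by
        rw [IsScalarTower.algebraMap_eq A (CAlg2.red A) K, ← RingHom.comap_ker,
          (RingHom.injective_iff_ker_eq_bot _).1 (IsFractionRing.injective (CAlg2.red A) K)]
        exact Ideal.mk_ker, fun z => by
        obtain ⟨a, b, hb, hab⟩ := (model_fractionRing (CAlg2.red A) K).exists_frac z
        obtain ⟨a, rfl⟩ := Ideal.Quotient.mk_surjective a
        obtain ⟨b, rfl⟩ := Ideal.Quotient.mk_surjective b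
        exact ⟨a, b, hb, hab⟩⟩
      exact hM.isUnibranch_iff.1 hu
    exact e.isLocalRing
  haveI : IsDomain (EGA4.Cpl (CAlg2.red A)) := (isDomain_cpl_iff_isUnibranch _ hR).2 huR
  have hfe : EGA4.IsFormallyEquidim (CAlg2.red A) := isEquidim_of_isDomain _
  refine Groth.Agent.S2636.result A fun p _ => ?_
  have hle : nilradical A ≤ p := nilradical_le_prime p
  let a : Ideal (CAlg2.red A) := p.map (Ideal.Quotient.mk (nilradical A))
  let e : CAlg2.red A ⧸ a ≃+* A ⧸ p := DoubleQuot.quotQuotEquivQuotOfLE hle
  haveI : Nontrivial (CAlg2.red A ⧸ a) := e.toEquiv.nontrivial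
  haveI : IsDomain (CAlg2.red A ⧸ a) := MulEquiv.isDomain (A ⧸ p) e.toMulEquiv
  haveI : IsLocalRing (CAlg2.red A ⧸ a) := IsLocalRing.of_surjective' (Ideal.Quotient.mk a) Ideal.Quotient.mk_surjective
  exact formallyEquidim_of_ringEquiv e
    ((UCat.formallyEquidim_quotient_iff (CAlg2.red A) hfe a).1 (isEquidim_of_isDomain _))

end Groth.Agent.HensFib6
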