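import Groth.Agent.Lib.GRing6.HensExc
import Groth.Agent.Lib.GRing6.Nagata
import Groth.Agent.Lib.GRing6.ReducedCpl
import Groth.Agent.Lib.NormalBC6.SepBase
import Groth.Agent.Lib.HensFib6.HenselNormal
import Groth.Agent.Lib.CAlgLow.NagataFT
import Mathlib

/-! # Geometrically reduced formal fibres and henselization -/

set_option autoImplicit false
set_option linter.style.haveILetI false
universe u
set_option backward.isDefEq.respectTransparency.types false

open IsLocalRing TensorProduct

namespace Groth.Agent.HensFib6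

/-- A quotient which is locally trivial along its kernel keeps reducedness. -/
theorem isReduced_of_surjective {S T : Type u} [CommRing S] [CommRing T] (π : S →+* T)
    (hπ : Function.Surjective π) [IsReduced S]
    (h : ∀ (Q : Ideal S) [Q.IsPrime], RingHom.ker π ≤ Q → ∀ z, π z = 0 →
      algebraMap S (Localization.AtPrime Q) z = 0) : IsReduced T := by
  refine ⟨fun z ⟨n, hn⟩ => ?_⟩
  by_contra hz
  obtain ⟨P, hP, hle⟩ := Ideal.exists_le_maximal (Submodule.colon (⊥ : Submodule T T) {z})
    (fun htop => hz (by simpa [Submodule.mem_colon_singleton] using (htop.ge Submodule.mem_top : (1 : T) ∈ _)))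
  haveI := hP.isPrime
  let Q := P.comap π
  haveI : Q.IsPrime := Ideal.IsPrime.comap π
  have hQ : RingHom.ker π ≤ Q := fun w hw => by
    show π w ∈ P
    rw [RingHom.mem_ker.1 hw]; exact zero_mem _
  obtain ⟨x, rfl⟩ := hπ z
  haveI : IsReduced (Localization.AtPrime Q) := isReduced_localizationPreserves Q.primeCompl _ ‹_›
  have h0 : algebraMap S (Localization.AtPrime Q) x = 0 :=
    IsReduced.eq_zero _ ⟨n, by rw [← map_pow]; exact h Q hQ _ (by rw [map_pow, hn])⟩
  obtain ⟨t, ht⟩ := (IsLocalization.map_eq_zero_iff Q.primeCompl _ x).1 h0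
  exact t.2 (show π t ∈ P from hle (Submodule.mem_colon_singleton.2 (by
    rw [Submodule.mem_bot, smul_eq_mul, ← map_mul, ht, map_zero])))

/-- Geometric reducedness passes up separable algebraic extensions. -/
theorem geomReduced_up_separable {k K : Type u} [Field k] [Field K] [Algebra k K] [Algebra.IsSeparable k K]
    (T : Type u) [CommRing T] [Algebra K T] [Algebra k T] [IsScalarTower k K T]
    (h : Algebra.IsGeometricallyReduced k T) : Algebra.IsGeometricallyReduced K T := by
  let L := AlgebraicClosure K
  haveI : Algebra.IsAlgebraic k L := Algebra.IsAlgebraic.trans k K L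
  haveI : IsReduced (L ⊗[k] T) := by
    haveI := h
    infer_instance
  rw [Algebra.isGeometricallyReduced_field_iff]
  let π : L ⊗[k] T →ₐ[k] L ⊗[K] T := Algebra.TensorProduct.lift
    ((Algebra.TensorProduct.includeLeft : L →ₐ[K] L ⊗[K] T).restrictScalars k)
    ((Algebra.TensorProduct.includeRight : T →ₐ[K] L ⊗[K] T).restrictScalars k) (fun _ _ => Commute.all _ _)
  have hπ : ∀ l a, π (l ⊗ₜ[k] a) = l ⊗ₜ[K] a := fun l a => by simp [π]
  have hsur : Function.Surjective π := fun x => by
    induction x with
    | zero => exact ⟨0, map_zero _⟩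
    | tmul l a => exact ⟨l ⊗ₜ a, hπ l a⟩
    | add x y hx hy =>
      obtain ⟨a, rfl⟩ := hx; obtain ⟨b, rfl⟩ := hy
      exact ⟨a + b, map_add π a b⟩
  refine isReduced_of_surjective π.toRingHom hsur fun Q _ hQ z hz => ?_
  let f := algebraMap (L ⊗[k] T) (Localization.AtPrime Q)
  have key : ∀ c : K, f (algebraMap K L c ⊗ₜ 1) = f (1 ⊗ₜ algebraMap K T c) := fun c =>
    NormalBC6.map_tmul_eq_of_ker_le π.toRingHom (fun c => by
      change π _ = π _
      rw [hπ, hπ, Algebra.algebraMap_eq_smul_one, Algebra.algebraMap_eq_smul_one, TensorProduct.smul_tmul]) Q hQ c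
  let ψ : L ⊗[K] T →+ Localization.AtPrime Q := TensorProduct.liftAddHom
    (AddMonoidHom.mk' (fun l => AddMonoidHom.mk' (fun a => f (l ⊗ₜ a)) fun a b => by rw [tmul_add, map_add])
      fun l m => by ext a; simp [add_tmul])
    fun c l a => by
      change f ((c • l) ⊗ₜ a) = f (l ⊗ₜ (c • a))
      rw [show (c • l) ⊗ₜ[k] a = (algebraMap K L c ⊗ₜ[k] (1 : T)) * (l ⊗ₜ[k] a) by
          rw [Algebra.TensorProduct.tmul_mul_tmul, one_mul, ← Algebra.smul_def],
        show l ⊗ₜ[k] (c • a) = ((1 : L) ⊗ₜ[k] algebraMap K T c) * (l ⊗ₜ[k] a) by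
          rw [Algebra.TensorProduct.tmul_mul_tmul, one_mul, ← Algebra.smul_def],
        map_mul, map_mul, key c]
  have hψ : ∀ z, ψ (π z) = f z := fun z => by
    induction z with
    | zero => simp
    | tmul l a => rw [hπ]; rfl
    | add x y hx hy => simp only [map_add, hx, hy]
  change f z = 0
  rw [← hψ z, show π z = 0 from hz, map_zero]

theorem geomReduced_localization {k A B : Type u} [Field k] [CommRing A] [CommRing B] [Algebra k A] [Algebra A B]
    [Algebra k B] [IsScalarTower k A B] (M : Submonoid A) [IsLocalization M B]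
    (h : Algebra.IsGeometricallyReduced k A) : Algebra.IsGeometricallyReduced k B := by
  rw [Algebra.isGeometricallyReduced_field_iff]
  let L := AlgebraicClosure k
  haveI : IsReduced (L ⊗[k] A) := by haveI := h; infer_instance
  haveI : IsReduced (A ⊗[k] L) := isReduced_of_injective (Algebra.TensorProduct.comm k A L) (AlgEquiv.injective _)
  haveI : IsReduced ((A ⊗[k] L) ⊗[A] B) :=
    isReduced_localizationPreserves (Algebra.algebraMapSubmonoid (A ⊗[k] L) M) ((A ⊗[k] L) ⊗[A] B) ‹_›
  let e := ((Algebra.TensorProduct.comm A (A ⊗[k] L) B).toRingEquiv.trans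
    ((Algebra.TensorProduct.cancelBaseChange k A B B L).toRingEquiv.trans
      (Algebra.TensorProduct.comm k B L).toRingEquiv))
  exact isReduced_of_injective e.symm e.symm.injective

theorem geomReduced_residueField_tensor {k FB FC : Type u} [Field k] [CommRing FB] [CommRing FC] [Algebra k FB]
    [Algebra k FC] [Algebra FB FC] [IsScalarTower k FB FC] {n : ℕ} {Ki : Fin n → Type u}
    [∀ i, Field (Ki i)] [∀ i, Algebra k (Ki i)] [∀ i, Algebra.IsSeparable k (Ki i)] (e : FB ≃ₐ[k] Π i, Ki i)
    (Q : Ideal FB) [Q.IsPrime] (h : Algebra.IsGeometricallyReduced k FC) :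
    Algebra.IsGeometricallyReduced Q.ResidueField (Q.Fiber FC) := by
  obtain ⟨hsep, hloc⟩ := GRing6.residueField_of_pi e Q
  have h' : Algebra.IsGeometricallyReduced k (FC ⊗[FB] Q.ResidueField) :=
    geomReduced_localization (Algebra.algebraMapSubmonoid FC Q.primeCompl) h
  exact geomReduced_up_separable (Q.ResidueField ⊗[FB] FC)
    (GRing6.geomReduced_of_algEquiv ((Algebra.TensorProduct.comm FB FC Q.ResidueField).restrictScalars k) h')

/-- Geometric reducedness of a fibre descends along a map surjective on stalks. -/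
theorem isGeomReduced_fibre_of_comap {A A' B B' : Type u} [CommRing A] [CommRing A'] [CommRing B] [CommRing B']
    [Algebra A A'] [Algebra A B] [Algebra A' B'] (hs : (algebraMap A A').SurjectiveOnStalks)
    (e : A' ⊗[A] B ≃ₐ[A'] B') (P : Ideal A') [P.IsPrime]
    (h : Algebra.IsGeometricallyReduced P.ResidueField (P.Fiber B')) :
    Algebra.IsGeometricallyReduced (P.comap (algebraMap A A')).ResidueField ((P.comap (algebraMap A A')).Fiber B) := by
  rw [GRing6.geomReduced_iff_finite]
  intro K _ _ hK
  let p := P.comap (algebraMap A A')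
  obtain ⟨r, hr⟩ := FlatDepth.exists_residueEquiv hs P
  letI : Algebra p.ResidueField P.ResidueField := r.toRingHom.toAlgebra
  letI : Algebra P.ResidueField K := ((algebraMap p.ResidueField K).comp r.symm.toRingHom).toAlgebra
  haveI : IsScalarTower p.ResidueField P.ResidueField K := .of_algebraMap_eq fun x => by
    show _ = algebraMap p.ResidueField K (r.symm (r x))
    rw [r.symm_apply_apply]
  haveI : Module.Finite P.ResidueField K := Module.Finite.of_restrictScalars_finite p.ResidueField _ _
  letI : Algebra A' K := ((algebraMap P.ResidueField K).comp (algebraMap A' P.ResidueField)).toAlgebra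
  haveI : IsScalarTower A' P.ResidueField K := .of_algebraMap_eq fun _ => rfl
  letI : Algebra A K := ((algebraMap A' K).comp (algebraMap A A')).toAlgebra
  haveI : IsScalarTower A A' K := .of_algebraMap_eq fun _ => rfl
  haveI : IsScalarTower A p.ResidueField K := .of_algebraMap_eq fun a => by
    show algebraMap p.ResidueField K (r.symm (algebraMap A' P.ResidueField (algebraMap A A' a))) = _
    rw [← hr, r.symm_apply_apply]
  haveI := (GRing6.geomReduced_iff_finite _ _).1 h K inferInstance
  exact isReduced_of_injective (FlatDepth.fiberBaseChangeEquiv e p P K).symm (RingEquiv.injective _)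

attribute [local instance] Algebra.TensorProduct.rightAlgebra

set_option maxHeartbeats 1000000 in
theorem isReducedHom_up_piFibres (R S C : Type u) [CommRing R] [CommRing S] [CommRing C] [Algebra R S] [Algebra S C]
    [Algebra R C] [IsScalarTower R S C] [Module.Flat S C]
    (hpi : GRing6.HasPiFibres R S) (h : GRing6.IsReducedHom R C) : GRing6.IsReducedHom S C := by
  refine ⟨inferInstance, fun P _ => ?_⟩
  let p := P.comap (algebraMap R S)
  obtain ⟨n, K, _, _, _, ⟨e⟩⟩ := hpi p
  obtain ⟨_, _, ⟨eC⟩⟩ := FlatDepth.exists_fibre_tower R S C p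
  let x := PrimeSpectrum.preimageEquivFiber R S ⟨p, inferInstance⟩ ⟨⟨P, ‹_›⟩, rfl⟩
  have hxP : x.asIdeal.comap (algebraMap S (p.Fiber S)) = P :=
    congrArg (fun y => y.1.asIdeal) ((PrimeSpectrum.preimageEquivFiber R S ⟨p, inferInstance⟩).symm_apply_apply ⟨⟨P, ‹_›⟩, rfl⟩)
  have key : ∀ (P' : Ideal S) [P'.IsPrime], P' = P →
      Algebra.IsGeometricallyReduced P'.ResidueField (P'.Fiber C) → Algebra.IsGeometricallyReduced P.ResidueField (P.Fiber C) := by
    intro P' _ hPP h'; subst hPP; exact h'
  exact key _ hxP (isGeomReduced_fibre_of_comap (FlatDepth.surjectiveOnStalks_fibre R S p) eC x.asIdeal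
    (geomReduced_residueField_tensor e x.asIdeal (h.2 p)))

noncomputable local instance (priority := high) cplAlgebra6r (A : Type u) [CommRing A] [IsLocalRing A] :
    Algebra A (EGA4.Cpl A) :=
  AdicCompletion.instAlgebra _

theorem henselization_reduced_formalFibres_iff (R S : Type u) [CommRing R] [IsLocalRing R] [IsNoetherianRing R]
    [CommRing S] [IsLocalRing S] [Algebra R S] [IsLocalHom (algebraMap R S)] [Hensel.IsHenselization R S] :
    EGA4.HasGeomReducedFormalFibres S ↔ EGA4.HasGeomReducedFormalFibres R := by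
  haveI : IsNoetherianRing S := Groth.Agent.Hens.henselization_isNoetherianRing R S
  haveI : Module.FaithfullyFlat R S := Groth.Agent.Hens.henselization_faithfullyFlat R S
  haveI : Module.FaithfullyFlat S (EGA4.Cpl S) := CplLocH7.faithfullyFlat_cpl S
  haveI : IsNoetherianRing (EGA4.Cpl R) := CplLocH7.isNoetherianRing_cpl R
  haveI : IsNoetherianRing (EGA4.Cpl S) := CplLocH7.isNoetherianRing_cpl S
  have hpi : GRing6.HasPiFibres R S := fun p _ => Groth.Agent.S2736.result R S p
  obtain ⟨_, _, hb⟩ := GRing6.exists_cpl_bijective R S (Groth.Agent.Hens.henselization_map_maximalIdeal R S)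
      (fun x => Groth.Agent.Hens.henselization_exists_sub_mem R S x)
  haveI hff : Module.FaithfullyFlat (EGA4.Cpl R) (EGA4.Cpl S) :=
    RingHom.faithfullyFlat_algebraMap_iff.1 (RingHom.FaithfullyFlat.of_bijective hb)
  constructor
  · intro h
    exact (GRing6.reducedProp_cpl_iff R).1 (GRing6.reducedProp.of_comp R (EGA4.Cpl R) (EGA4.Cpl S)
      (GRing6.reducedProp.comp R S (EGA4.Cpl S) (GRing6.reducedProp.of_regular R S (GRing6.isRegularHom_of_piFibres R S hpi))
        ((GRing6.reducedProp_cpl_iff S).2 h)))
  · intro h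
    exact (GRing6.reducedProp_cpl_iff S).1 (isReducedHom_up_piFibres R S (EGA4.Cpl S) hpi
      (GRing6.reducedProp.comp R (EGA4.Cpl R) (EGA4.Cpl S) ((GRing6.reducedProp_cpl_iff R).2 h)
        (GRing6.reducedProp.of_regular _ _ (GRing12.isRegularHom_of_bijective _ _ hb))))

theorem isUniversallyJapanese_iff_reducedFibres (A : Type u) [CommRing A] [IsLocalRing A] [IsNoetherianRing A] :
    CAlg.IsUniversallyJapanese A ↔ EGA4.HasGeomReducedFormalFibres A :=
  ⟨fun h => GRing6.geomReducedFormalFibres_of_isN2 A fun p _ => h (A ⧸ p) inferInstance,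
    fun h => CAlgLow.isUniversallyJapanese_of_isNagata (GRing6.isNagata_of_local A h)⟩

end Groth.Agent.HensFib6
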