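import Groth.Agent.Lib.GRing6.HensExc
import Groth.Agent.Lib.FlatDepth.Depth
import Groth.Agent.Lib.FlatDepth.CplQuot
import Groth.Agent.Lib.UCat.Completion
import Mathlib

/-! # Henselization and formally strictly catenary rings -/

set_option autoImplicit false
set_option linter.style.haveILetI false
universe u
set_option backward.isDefEq.respectTransparency.types false

open IsLocalRing TensorProduct

namespace Groth.Agent.HensFib6

/-- Strict equidimensionality of a quotient, read upstairs. -/
theorem isStrictlyEquidim_iff_of_surjective {C D : Type u} [CommRing C] [CommRing D] (φ : C →+* D)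
    (hφ : Function.Surjective φ) {I : Ideal C} (hI : RingHom.ker φ = I) :
    EGA4.IsStrictlyEquidim D ↔
      ∀ P ∈ associatedPrimes C (C ⧸ I), ringKrullDim (C ⧸ P) = ringKrullDim (C ⧸ I) := by
  have hcolon : ∀ c : C, ((⊥ : Submodule D D).colon {φ c}).comap φ = (⊥ : Submodule C (C ⧸ I)).colon {Ideal.Quotient.mk I c} := by
    intro c
    ext r
    rw [Ideal.mem_comap, Submodule.mem_colon_singleton, Submodule.mem_colon_singleton, Submodule.mem_bot,
      Submodule.mem_bot, smul_eq_mul, ← map_mul, ← RingHom.mem_ker, hI, ← Ideal.Quotient.eq_zero_iff_mem, map_mul]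
    rfl
  have hdim : ringKrullDim (C ⧸ I) = ringKrullDim D :=
    ringKrullDim_eq_of_ringEquiv ((Ideal.quotEquivOfEq hI.symm).trans (RingHom.quotientKerEquivOfSurjective hφ))
  have hq : ∀ Q : Ideal D, ringKrullDim (C ⧸ Q.comap φ) = ringKrullDim (D ⧸ Q) := fun Q =>
    ringKrullDim_eq_of_ringEquiv ((Ideal.quotEquivOfEq (J := RingHom.ker ((Ideal.Quotient.mk Q).comp φ))
        (by rw [← RingHom.comap_ker, Ideal.mk_ker])).trans
      (RingHom.quotientKerEquivOfSurjective (f := (Ideal.Quotient.mk Q).comp φ)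
        (Ideal.Quotient.mk_surjective.comp hφ)))
  constructor
  · intro h P hP
    obtain ⟨hPp, z, hPe⟩ := hP
    obtain ⟨c, rfl⟩ := Ideal.Quotient.mk_surjective z
    rw [← hcolon c, ← Ideal.comap_radical] at hPe
    have hle : RingHom.ker φ ≤ P := by
      rw [hPe]; exact Ideal.comap_mono bot_le
    haveI := hPp
    have hQ : P.map φ ∈ associatedPrimes D D := ⟨Ideal.map_isPrime_of_surjective hφ hle, φ c, by
      rw [hPe, Ideal.map_comap_of_surjective φ hφ]⟩
    have hP' : P = (P.map φ).comap φ := by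
      rw [Ideal.comap_map_of_surjective φ hφ, ← RingHom.ker_eq_comap_bot, sup_eq_left.2 hle]
    rw [hP', hq, h _ hQ, hdim]
  · intro h Q hQ
    obtain ⟨hQp, z, hQe⟩ := hQ
    obtain ⟨c, rfl⟩ := hφ z
    haveI := hQp
    have hP : Q.comap φ ∈ associatedPrimes C (C ⧸ I) := ⟨inferInstance, Ideal.Quotient.mk I c, by
      rw [hQe, Ideal.comap_radical, hcolon]⟩
    rw [← hq, h _ hP, hdim]

/-- A submodule quotient of a strictly equidimensional quotient is strictly equidimensional. -/
theorem strictlyEquidim_of_injective {C : Type u} [CommRing C] [IsNoetherianRing C] {I J : Ideal C} (hJ : J ≠ ⊤)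
    (f : (C ⧸ J) →ₗ[C] (C ⧸ I)) (hf : Function.Injective f)
    (h : ∀ P ∈ associatedPrimes C (C ⧸ I), ringKrullDim (C ⧸ P) = ringKrullDim (C ⧸ I)) :
    ∀ P ∈ associatedPrimes C (C ⧸ J), ringKrullDim (C ⧸ P) = ringKrullDim (C ⧸ J) := by
  have hsub := associatedPrimes.subset_of_injective hf
  have hdim : ringKrullDim (C ⧸ J) = ringKrullDim (C ⧸ I) := UCat.ringKrullDim_quotient_eq_of_forall hJ fun P hP =>
    h P (hsub (Module.associatedPrimes.minimalPrimes_annihilator_subset_associatedPrimes C (C ⧸ J)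
      (by rwa [Ideal.annihilator_quotient])))
  intro P hP
  rw [h P (hsub hP), hdim]

noncomputable local instance (priority := high) cplAlgebra6s (A : Type u) [CommRing A] [IsLocalRing A] :
    Algebra A (EGA4.Cpl A) :=
  AdicCompletion.instAlgebra _

/-- A prime of the henselization is minimal over the extension of its trace. -/
theorem mem_minimalPrimes_map_comap (R S : Type u) [CommRing R] [IsLocalRing R] [IsNoetherianRing R]
    [CommRing S] [IsLocalRing S] [Algebra R S] [IsLocalHom (algebraMap R S)] [Hensel.IsHenselization R S]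
    (q : Ideal S) [q.IsPrime] :
    q ∈ ((q.comap (algebraMap R S)).map (algebraMap R S)).minimalPrimes := by
  refine ⟨⟨inferInstance, Ideal.map_comap_le⟩, fun Q hQ hle => ?_⟩
  haveI := hQ.1
  let p := q.comap (algebraMap R S)
  have hQp : Q.comap (algebraMap R S) = p :=
    le_antisymm (Ideal.comap_mono hle) (Ideal.map_le_iff_le_comap.1 hQ.2)
  obtain ⟨n, K, _, _, _, ⟨e⟩⟩ := Groth.Agent.S2736.result R S p
  haveI : IsArtinianRing (p.ResidueField ⊗[R] S) := e.symm.toRingEquiv.isArtinianRing
  let E := PrimeSpectrum.preimageOrderIsoFiber R S ⟨p, inferInstance⟩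
  let a : PrimeSpectrum.comap (algebraMap R S) ⁻¹' {⟨p, inferInstance⟩} := ⟨⟨Q, hQ.1⟩, PrimeSpectrum.ext hQp⟩
  let b : PrimeSpectrum.comap (algebraMap R S) ⁻¹' {⟨p, inferInstance⟩} := ⟨⟨q, inferInstance⟩, rfl⟩
  have hab : E a ≤ E b := E.le_iff_le.2 hle
  have : E a = E b := by
    haveI : (E a).asIdeal.IsMaximal := IsArtinianRing.isMaximal_of_isPrime _
    exact PrimeSpectrum.ext (Ideal.IsMaximal.eq_of_le inferInstance (Ideal.IsPrime.ne_top inferInstance) hab)
  exact (congrArg (fun x => x.1.asIdeal) (E.injective this)).ge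

theorem henselization_formallyStrictlyCatenary (R S : Type u) [CommRing R] [IsLocalRing R] [IsNoetherianRing R]
    [CommRing S] [IsLocalRing S] [Algebra R S] [IsLocalHom (algebraMap R S)] [Hensel.IsHenselization R S]
    (h : EGA4.IsFormallyStrictlyCatenary R) : EGA4.IsFormallyStrictlyCatenary S := by
  haveI : IsNoetherianRing S := Groth.Agent.Hens.henselization_isNoetherianRing R S
  haveI : Module.FaithfullyFlat R S := Groth.Agent.Hens.henselization_faithfullyFlat R S
  haveI : Module.FaithfullyFlat S (EGA4.Cpl S) := CplLocH7.faithfullyFlat_cpl S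
  haveI : IsNoetherianRing (EGA4.Cpl S) := CplLocH7.isNoetherianRing_cpl S
  obtain ⟨_, _, hb⟩ := GRing6.exists_cpl_bijective R S (Groth.Agent.Hens.henselization_map_maximalIdeal R S)
      (fun x => Groth.Agent.Hens.henselization_exists_sub_mem R S x)
  intro q _
  let p := q.comap (algebraMap R S)
  let C := EGA4.Cpl S
  let e : EGA4.Cpl R ≃+* C := RingEquiv.ofBijective _ hb
  haveI : IsLocalRing (S ⧸ q) := IsLocalRing.of_surjective' (Ideal.Quotient.mk q) Ideal.Quotient.mk_surjective
  haveI : IsLocalRing (R ⧸ p) := IsLocalRing.of_surjective' (Ideal.Quotient.mk p) Ideal.Quotient.mk_surjective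
  let πS := FlatDepth.cplQuotHom S (S ⧸ q) Ideal.Quotient.mk_surjective
  let πR := FlatDepth.cplQuotHom R (R ⧸ p) Ideal.Quotient.mk_surjective
  let I := p.map (algebraMap R S)
  -- the completion of `R ⧸ p` seen over `C`
  have hI : RingHom.ker (πR.comp e.symm.toRingHom) = I.map (algebraMap S C) := by
    rw [← RingHom.comap_ker, FlatDepth.ker_cplQuotHom, Ideal.Quotient.algebraMap_eq, Ideal.mk_ker]
    show ((p.map (algebraMap R (EGA4.Cpl R))).comap (e.symm : C →+* EGA4.Cpl R)) = _
    rw [show (p.map (algebraMap R (EGA4.Cpl R))).comap (e.symm : C →+* EGA4.Cpl R) =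
      (p.map (algebraMap R (EGA4.Cpl R))).map (e : EGA4.Cpl R →+* C) from (Ideal.map_comap_of_equiv (I := p.map (algebraMap R (EGA4.Cpl R))) e).symm,
      Ideal.map_map, Ideal.map_map]
    congr 1
    refine RingHom.ext fun r => ?_
    show algebraMap (EGA4.Cpl R) C (algebraMap R (EGA4.Cpl R) r) = algebraMap S C (algebraMap R S r)
    rw [← IsScalarTower.algebraMap_apply, ← IsScalarTower.algebraMap_apply]
  have hR := (isStrictlyEquidim_iff_of_surjective (πR.comp e.symm.toRingHom)
    ((FlatDepth.cplQuotHom_surjective R (R ⧸ p) Ideal.Quotient.mk_surjective).comp e.symm.surjective) hI).1 (h p)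
  have hJ : RingHom.ker πS = q.map (algebraMap S C) := by
    rw [FlatDepth.ker_cplQuotHom, Ideal.Quotient.algebraMap_eq, Ideal.mk_ker]
  refine (isStrictlyEquidim_iff_of_surjective πS
    (FlatDepth.cplQuotHom_surjective S (S ⧸ q) Ideal.Quotient.mk_surjective) hJ).2 ?_
  have hq : q ∈ associatedPrimes S (S ⧸ I) :=
    Module.associatedPrimes.minimalPrimes_annihilator_subset_associatedPrimes S (S ⧸ I)
      (by rw [Ideal.annihilator_quotient]; exact mem_minimalPrimes_map_comap R S q)
  obtain ⟨-, f, hf⟩ := (isAssociatedPrime_iff_exists_injective_linearMap q (S ⧸ I)).1 hq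
  let E : ∀ J : Ideal S, C ⊗[S] (S ⧸ J) ≃ₗ[C] C ⧸ J.map (algebraMap S C) := fun J =>
    (FlatDepth.tensorQuotEquiv C J).trans
      (Submodule.quotEquivOfEq _ _ (by rw [Ideal.smul_eq_mul, Ideal.mul_top]))
  refine strictlyEquidim_of_injective (fun h0 => ?_)
    ((E I).toLinearMap ∘ₗ (AlgebraTensorModule.lTensor C C f) ∘ₗ (E q).symm.toLinearMap) ?_ hR
  · exact (Ideal.IsPrime.ne_top ‹_›) (by
      rw [← Ideal.comap_map_eq_self_of_faithfullyFlat (B := C) q, h0, Ideal.comap_top])
  · exact (E I).injective.comp ((Module.Flat.lTensor_preserves_injective_linearMap f hf).comp (E q).symm.injective)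

end Groth.Agent.HensFib6
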