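import Groth.Agent.Lib.FlatDepth.RingFib
import Groth.Agent.Lib.FlatDepth.FibBC
import Groth.Agent.Lib.NormalBC6.TensorField
import Groth.Agent.Lib.FlatDepth.RegNormal
import Groth.Agent.Lib.NormalSmooth12.Basic
import Groth.Agent.Lib.Branch14.GUTensor
import Groth.Agent.Lib.Compl.Noetherian
import Mathlib

/-! # Completion along an ideal and the localization at `1 + J` -/

set_option autoImplicit false
set_option linter.style.haveILetI false
universe u
set_option backward.isDefEq.respectTransparency.types false

open TensorProduct

namespace Groth.Agent.HensFib6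

noncomputable local instance (priority := high) cplAlgebra6o (A : Type u) [CommRing A] (J : Ideal A) :
    Algebra A (AdicCompletion J A) :=
  AdicCompletion.instAlgebra _

variable {A : Type u} [CommRing A] [IsNoetherianRing A] (J : Ideal A)

theorem henselianRing_cpl : HenselianRing (AdicCompletion J A) (J.map (algebraMap A (AdicCompletion J A))) := by
  haveI := AdicCompletion.isAdicComplete_self J (IsNoetherian.noetherian J)
  infer_instance

/-- `Â/JÂ` has no more idempotents than `A/J`. -/
theorem exists_sub_mem (x : AdicCompletion J A) :
    ∃ a : A, x - algebraMap A (AdicCompletion J A) a ∈ J.map (algebraMap A (AdicCompletion J A)) := by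
  obtain ⟨a, ha⟩ := Compl.exists_sub_mem_map_pow (I := J) 1 x
  exact ⟨a, by rwa [pow_one] at ha⟩

theorem mem_of_algebraMap_mem {a : A}
    (h : algebraMap A (AdicCompletion J A) a ∈ J.map (algebraMap A (AdicCompletion J A))) : a ∈ J := by
  have := Compl.mem_pow_of_map_mem (I := J) (n := 1) (b := a) (by rwa [pow_one])
  rwa [pow_one] at this

theorem trivial_idempotents_of_preconnected {R : Type u} [CommRing R] [PreconnectedSpace (PrimeSpectrum R)]
    (e : R) (he : IsIdempotentElem e) : e = 0 ∨ e = 1 := by
  rcases isClopen_iff.1 (PrimeSpectrum.isIdempotentElemEquivClopens (⟨e, he⟩ : {e : R | IsIdempotentElem e})).isClopen with h | h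
  · left
    rw [PrimeSpectrum.coe_isIdempotentElemEquivClopens_apply] at h
    have : IsNilpotent e := (PrimeSpectrum.basicOpen_eq_bot_iff e).1 (SetLike.coe_injective h)
    exact IsIdempotentElem.eq_zero_of_isNilpotent he this
  · right
    rw [PrimeSpectrum.coe_isIdempotentElemEquivClopens_apply] at h
    have : IsUnit e := by
      by_contra hu
      obtain ⟨m, hm, hem⟩ := exists_max_ideal_of_mem_nonunits (mem_nonunits_iff.2 hu)
      exact (Set.eq_univ_iff_forall.1 h ⟨m, hm.isPrime⟩ : _) hem
    exact (IsIdempotentElem.iff_eq_one_of_isUnit this).1 he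

theorem connectedSpace_of_trivial_idempotents {R : Type u} [CommRing R] [Nontrivial R]
    (h : ∀ e : R, IsIdempotentElem e → e = 0 ∨ e = 1) : ConnectedSpace (PrimeSpectrum R) := by
  haveI : PreconnectedSpace (PrimeSpectrum R) := by
    rw [preconnectedSpace_iff_clopen]
    intro s hs
    let e := PrimeSpectrum.isIdempotentElemEquivClopens.symm ⟨s, hs⟩
    have hcoe : s = (PrimeSpectrum.basicOpen (e.1 : R) : Set (PrimeSpectrum R)) := by
      rw [← PrimeSpectrum.coe_isIdempotentElemEquivClopens_apply, OrderIso.apply_symm_apply]
      rfl
    rcases h e.1 e.2 with he | he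
    · left; rw [hcoe, he, PrimeSpectrum.basicOpen_zero]; rfl
    · right; rw [hcoe, he, PrimeSpectrum.basicOpen_one]; rfl
  exact { toNonempty := inferInstance }

variable (hJ : J ≠ ⊤) (T : Submonoid A) (hT : T = MonoidHom.mker (Ideal.Quotient.mk J))

include hT in
theorem isUnit_of_mem (t : T) : IsUnit (algebraMap A (AdicCompletion J A) t) := by
  haveI := henselianRing_cpl J
  have ht : Ideal.Quotient.mk J (t : A) = 1 := by
    have := t.2
    simp only [hT] at this
    exact this
  have h0 : algebraMap A (AdicCompletion J A) t - 1 ∈ J.map (algebraMap A (AdicCompletion J A)) := by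
    rw [← map_one (algebraMap A (AdicCompletion J A)), ← map_sub]
    exact Ideal.mem_map_of_mem _ (Ideal.Quotient.eq.1 (ht.trans (map_one _).symm))
  have h1 := Ideal.mem_jacobson_bot.1 (HenselianRing.jac (I := J.map (algebraMap A (AdicCompletion J A))) h0) 1
  simpa using h1

/-- `A_T → Â`. -/
noncomputable abbrev algebraOnePlus : Algebra (Localization T) (AdicCompletion J A) :=
  (IsLocalization.lift (M := T) (S := Localization T) (isUnit_of_mem J T hT)).toAlgebra

include hT in
theorem onePlus_tower : letI := algebraOnePlus J T hT
    IsScalarTower A (Localization T) (AdicCompletion J A) := by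
  letI := algebraOnePlus J T hT
  exact .of_algebraMap_eq fun a => (IsLocalization.lift_eq (M := T) (S := Localization T) (isUnit_of_mem J T hT) a).symm

include hT in
theorem isUnit_one_add {j : A} (hj : j ∈ J) : IsUnit (algebraMap A (Localization T) (1 + j)) :=
  IsLocalization.map_units (M := T) (Localization T) ⟨1 + j, by
    rw [hT]
    show Ideal.Quotient.mk J (1 + j) = 1
    rw [map_add, map_one, Ideal.Quotient.eq_zero_iff_mem.2 hj, add_zero]⟩

include hJ hT in
theorem faithfullyFlat_onePlus [Module.Flat A (AdicCompletion J A)] : letI := algebraOnePlus J T hT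
    Module.FaithfullyFlat (Localization T) (AdicCompletion J A) := by
  letI := algebraOnePlus J T hT
  haveI := onePlus_tower J T hT
  haveI : Module.Flat (Localization T) (AdicCompletion J A) :=
    (Module.flat_iff_of_isLocalization (R := A) (Localization T) T (M := AdicCompletion J A)).2 inferInstance
  -- every closed point lifts
  have hmax : ∀ m : Ideal (Localization T), m.IsMaximal → J ≤ m.comap (algebraMap A (Localization T)) := by
    intro m hm j hj
    by_contra hjm
    obtain ⟨z, hz⟩ := hm.exists_inv (show algebraMap A (Localization T) j ∉ m from hjm)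
    obtain ⟨i, hi, hzi⟩ := hz
    obtain ⟨a, s, rfl⟩ := IsLocalization.exists_mk'_eq T z
    -- `s - a j` is a unit lying in `m`
    have hs : Ideal.Quotient.mk J (s : A) = 1 := by
      have := s.2; simp only [hT] at this; exact this
    have h1 : algebraMap A (Localization T) (s - a * j) ∈ m := by
      have : algebraMap A (Localization T) (s - a * j) = algebraMap A (Localization T) (s : A) * i := by
        rw [map_sub, map_mul, ← IsLocalization.mk'_spec (Localization T) a s]
        linear_combination -(algebraMap A (Localization T) (s : A)) * hzi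
      rw [this]
      exact m.mul_mem_left _ hi
    refine hm.ne_top (Ideal.eq_top_of_isUnit_mem _ h1 ?_)
    have := isUnit_one_add J T hT (j := s - 1 - a * j) (J.sub_mem (Ideal.Quotient.eq.1 (hs.trans (map_one _).symm)) (J.mul_mem_left a hj))
    rwa [show (1 : A) + (s - 1 - a * j) = s - a * j by ring] at this
  haveI : Nontrivial (A ⧸ J) := Ideal.Quotient.nontrivial_iff.2 hJ
  refine Module.FaithfullyFlat.of_comap_surjective fun P => ?_
  obtain ⟨m, hm, hPm⟩ := Ideal.exists_le_maximal P.asIdeal P.isPrime.ne_top
  obtain ⟨Q, hQ⟩ : ∃ Q : PrimeSpectrum (AdicCompletion J A),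
      Q.asIdeal.comap (algebraMap (Localization T) (AdicCompletion J A)) = m := by
    let I := m.comap (algebraMap A (Localization T))
    let ψ : AdicCompletion J A →+* A ⧸ I :=
      (Ideal.Quotient.factor (le_trans (le_of_eq (pow_one J)) (hmax m hm))).comp (AdicCompletion.evalₐ J 1).toRingHom
    haveI : I.IsPrime := Ideal.IsPrime.comap _
    refine ⟨⟨RingHom.ker ψ, RingHom.ker_isPrime _⟩, ?_⟩
    refine (IsLocalization.orderEmbedding T (Localization T)).injective ?_
    show ((RingHom.ker ψ).comap (algebraMap (Localization T) (AdicCompletion J A))).comap (algebraMap A (Localization T)) = I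
    rw [Ideal.comap_comap, ← IsScalarTower.algebraMap_eq, RingHom.comap_ker]
    ext a
    rw [RingHom.mem_ker, RingHom.comp_apply]
    simp only [ψ, RingHom.comp_apply]
    show Ideal.Quotient.factor _ (AdicCompletion.evalₐ J 1 (algebraMap A (AdicCompletion J A) a)) = 0 ↔ _
    rw [AlgHom.commutes]
    show Ideal.Quotient.mk I a = 0 ↔ _
    rw [Ideal.Quotient.eq_zero_iff_mem]
  haveI := P.isPrime
  haveI : Q.asIdeal.LiesOver m := ⟨hQ.symm⟩
  obtain ⟨Q', -, hQ'p, hQ'⟩ := Ideal.exists_ideal_le_liesOver_of_le (S := AdicCompletion J A) Q.asIdeal (p := P.asIdeal) (q := m) hPm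
  exact ⟨⟨Q', hQ'p⟩, PrimeSpectrum.ext hQ'.over.symm⟩

include hT in
theorem isGeomNormal_fibre_onePlus (h : EGA4.IsNormalHom A (AdicCompletion J A)) : letI := algebraOnePlus J T hT
    ∀ (P : Ideal (Localization T)) [P.IsPrime], EGA4.IsGeomNormal P.ResidueField (P.Fiber (AdicCompletion J A)) := by
  letI := algebraOnePlus J T hT
  haveI := onePlus_tower J T hT
  haveI := IsLocalization.tensorProduct_compatibleSMul T (Localization T) (AdicCompletion J A) (AdicCompletion J A)
  intro P _
  exact FlatDepth.isGeomNormal_fibre (RingHom.surjectiveOnStalks_of_isLocalization T _)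
    (Algebra.TensorProduct.lidOfCompatibleSMul A (Localization T) (AdicCompletion J A)) h.2 P

include hJ hT in
theorem isNormalRing_onePlus_iff (h : EGA4.IsNormalHom A (AdicCompletion J A)) :
    EGA4.IsNormalRing (Localization T) ↔ EGA4.IsNormalRing (AdicCompletion J A) := by
  letI := algebraOnePlus J T hT
  haveI := h.1
  haveI := faithfullyFlat_onePlus J hJ T hT
  haveI : IsNoetherianRing (AdicCompletion J A) := Compl.isNoetherianRing_adicCompletion J (IsNoetherian.noetherian J)
  haveI : IsNoetherianRing (Localization T) := IsLocalization.isNoetherianRing T _ inferInstance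
  exact ⟨fun hA => FlatDepth.normal_of_flat_fibres hA fun p _ =>
    NormalBC6.isNormalRing_of_isGeomNormal (isGeomNormal_fibre_onePlus J T hT h p), FlatDepth.normal_of_faithfullyFlat⟩

include hT in
theorem isRegular_fibre_onePlus (h : CAlg.IsRegularHom A (AdicCompletion J A)) : letI := algebraOnePlus J T hT
    ∀ (P : Ideal (Localization T)) [P.IsPrime],
      CAlg.IsGeometricallyRegular P.ResidueField (P.Fiber (AdicCompletion J A)) := by
  letI := algebraOnePlus J T hT
  haveI := onePlus_tower J T hT
  haveI := IsLocalization.tensorProduct_compatibleSMul T (Localization T) (AdicCompletion J A) (AdicCompletion J A)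
  intro P _
  exact FlatDepth.isGeomRegular_fibre (RingHom.surjectiveOnStalks_of_isLocalization T _)
    (Algebra.TensorProduct.lidOfCompatibleSMul A (Localization T) (AdicCompletion J A)) (fun p _ => (h.2 p).2) P

include hJ hT in
theorem isRegularRing_onePlus_iff (h : CAlg.IsRegularHom A (AdicCompletion J A)) :
    IsRegularRing (Localization T) ↔ IsRegularRing (AdicCompletion J A) := by
  letI := algebraOnePlus J T hT
  haveI := h.1
  haveI := faithfullyFlat_onePlus J hJ T hT
  haveI : IsNoetherianRing (AdicCompletion J A) := Compl.isNoetherianRing_adicCompletion J (IsNoetherian.noetherian J)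
  haveI : IsNoetherianRing (Localization T) := IsLocalization.isNoetherianRing T _ inferInstance
  refine ⟨fun hA => FlatDepth.regular_of_flat_fibres (A := Localization T) fun p _ => ?_,
    fun hB => FlatDepth.regular_of_faithfullyFlat (B := AdicCompletion J A)⟩
  haveI := isRegular_fibre_onePlus J T hT h p p.ResidueField inferInstance
  exact IsRegularRing.of_ringEquiv (R := p.ResidueField ⊗[p.ResidueField] p.Fiber (AdicCompletion J A))
    (Algebra.TensorProduct.lid p.ResidueField (p.Fiber (AdicCompletion J A))).toRingEquiv

include hJ hT in
theorem isDomain_isIntegrallyClosed_onePlus_iff (h : EGA4.IsNormalHom A (AdicCompletion J A)) :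
    (IsDomain (AdicCompletion J A) ∧ IsIntegrallyClosed (AdicCompletion J A)) ↔
      ((IsDomain (Localization T) ∧ IsIntegrallyClosed (Localization T)) ∧
        ConnectedSpace (PrimeSpectrum (A ⧸ J))) := by
  letI := algebraOnePlus J T hT
  haveI := h.1
  haveI := faithfullyFlat_onePlus J hJ T hT
  haveI : IsNoetherianRing (AdicCompletion J A) := Compl.isNoetherianRing_adicCompletion J (IsNoetherian.noetherian J)
  haveI := henselianRing_cpl J
  haveI : Nontrivial (A ⧸ J) := Ideal.Quotient.nontrivial_iff.2 hJ
  haveI : IsNoetherianRing (Localization T) := IsLocalization.isNoetherianRing T _ inferInstance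
  constructor
  · rintro ⟨hd, hi⟩
    haveI := hd; haveI := hi
    haveI : IsDomain (Localization T) :=
      Function.Injective.isDomain (algebraMap (Localization T) (AdicCompletion J A)) (FaithfulSMul.algebraMap_injective _ _)
    refine ⟨⟨inferInstance, ?_⟩, connectedSpace_of_trivial_idempotents fun e he => ?_⟩
    · have hn := (isNormalRing_onePlus_iff J hJ T hT h).2 (Branch14.GUT.isNormalRing_of_isIntegrallyClosed _)
      exact IsIntegrallyClosed.of_localization_maximal fun q _ hq => (hn q).2
    · obtain ⟨a, rfl⟩ := Ideal.Quotient.mk_surjective e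
      have ha : a * a - a ∈ J := Ideal.Quotient.eq.1 (by rw [map_mul]; exact he)
      let b := algebraMap A (AdicCompletion J A) a
      have hb : b * b - b ∈ J.map (algebraMap A (AdicCompletion J A)) := by
        rw [← map_mul, ← map_sub]; exact Ideal.mem_map_of_mem _ ha
      obtain ⟨r, hr, hrb⟩ := HenselianRing.is_henselian (I := J.map (algebraMap A (AdicCompletion J A)))
        (Polynomial.X ^ 2 - Polynomial.X)
        (by apply Polynomial.monic_X_pow_sub (n := 2); simpa using Polynomial.degree_X_le.trans_lt (by norm_num))
        b (by simpa [sq] using hb) (by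
          have h2 : (2 * b - 1) * (2 * b - 1) - 1 ∈ J.map (algebraMap A (AdicCompletion J A)) := by
            have := Ideal.mul_mem_left _ (4 : AdicCompletion J A) hb
            convert this using 1; ring
          refine IsUnit.of_mul_eq_one (Ideal.Quotient.mk _ (2 * b - 1)) ?_
          simp only [Polynomial.derivative_sub, Polynomial.derivative_X_pow, Polynomial.derivative_X,
            Polynomial.eval_sub, Polynomial.eval_mul, Polynomial.eval_C, Polynomial.eval_pow, Polynomial.eval_X,
            Polynomial.eval_one]
          rw [← map_mul, ← map_one (Ideal.Quotient.mk _), Ideal.Quotient.eq]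
          simpa using h2)
      have hr2 : r * (r - 1) = 0 := by
        have := hr
        simp only [Polynomial.IsRoot.def, Polynomial.eval_sub, Polynomial.eval_pow, Polynomial.eval_X] at this
        linear_combination this
      rcases mul_eq_zero.1 hr2 with h0 | h0
      · left
        rw [Ideal.Quotient.eq_zero_iff_mem]
        refine mem_of_algebraMap_mem J ?_
        rw [h0, zero_sub] at hrb
        simpa [b] using neg_mem hrb
      · right
        rw [← map_one (Ideal.Quotient.mk J), Ideal.Quotient.eq]
        refine mem_of_algebraMap_mem J ?_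
        rw [sub_eq_zero.1 h0] at hrb
        rw [map_sub, map_one]
        simpa [b] using neg_mem hrb
  · rintro ⟨⟨hd, hi⟩, hc⟩
    haveI := hd; haveI := hi; haveI := hc
    have hn := (isNormalRing_onePlus_iff J hJ T hT h).1 (Branch14.GUT.isNormalRing_of_isIntegrallyClosed _)
    haveI : Nontrivial (AdicCompletion J A) :=
      (FaithfulSMul.algebraMap_injective (Localization T) (AdicCompletion J A)).nontrivial
    haveI : IsDomain (AdicCompletion J A) := NormalSmooth12.isDomain_of_isNormalRing hn fun e he => by
      obtain ⟨a, ha⟩ := exists_sub_mem J e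
      have hq : IsIdempotentElem (Ideal.Quotient.mk J a) := by
        show _ = _
        rw [← map_mul, Ideal.Quotient.eq]
        refine mem_of_algebraMap_mem J ?_
        rw [map_sub, map_mul]
        rw [show algebraMap A (AdicCompletion J A) a * algebraMap A (AdicCompletion J A) a - algebraMap A (AdicCompletion J A) a
          = (e - algebraMap A (AdicCompletion J A) a) * (1 - e - algebraMap A (AdicCompletion J A) a) + (e * e - e) by ring,
          show e * e - e = 0 from sub_eq_zero.2 he, add_zero]
        exact Ideal.mul_mem_right _ _ ha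
      rcases trivial_idempotents_of_preconnected _ hq with h0 | h0
      · left
        have hmem : e ∈ J.map (algebraMap A (AdicCompletion J A)) := by
          have := add_mem ha (Ideal.mem_map_of_mem (algebraMap A (AdicCompletion J A)) (Ideal.Quotient.eq_zero_iff_mem.1 h0))
          rwa [sub_add_cancel] at this
        have hu := Ideal.mem_jacobson_bot.1 (HenselianRing.jac (I := J.map (algebraMap A (AdicCompletion J A))) hmem) (-1)
        refine hu.mul_left_eq_zero.1 ?_
        have he' : e * e = e := he
        linear_combination (-1 : AdicCompletion J A) * he'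
      · right
        have hmem : 1 - e ∈ J.map (algebraMap A (AdicCompletion J A)) := by
          have h1 : a - 1 ∈ J := Ideal.Quotient.eq.1 (h0.trans (map_one _).symm)
          have := neg_mem (add_mem ha (Ideal.mem_map_of_mem (algebraMap A (AdicCompletion J A)) h1))
          rw [map_sub, map_one] at this
          convert this using 1; ring
        have hu := Ideal.mem_jacobson_bot.1 (HenselianRing.jac (I := J.map (algebraMap A (AdicCompletion J A))) hmem) (-1)
        have : (1 - e) = 0 := hu.mul_left_eq_zero.1 (by
          have he' : e * e = e := he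
          linear_combination (-1 : AdicCompletion J A) * he')
        exact (sub_eq_zero.1 this).symm
    exact ⟨inferInstance, IsIntegrallyClosed.of_localization_maximal fun q _ hq => (hn q).2⟩

end Groth.Agent.HensFib6
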