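import Groth.Agent.Lib.GeomIrr18.Alg
import Groth.Agent.Lib.NormalBC6.Closure
import Groth.Agent.Lib.WeilRes21.Connected
import Mathlib

/-! # Geometric integrality and connectedness tested on finite extensions -/

set_option autoImplicit false
set_option linter.style.haveILetI false
universe u

open TensorProduct

namespace Groth.Agent.HensFib6

/-- Over an algebraically closed field a domain does not create idempotents. -/
theorem idem_tensor_of_isAlgClosed {k A B : Type u} [Field k] [IsAlgClosed k] [CommRing A] [IsDomain A] [CommRing B]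
    [Algebra k A] [Algebra k B] (hB : ∀ f : B, IsIdempotentElem f → f = 0 ∨ f = 1)
    (e : A ⊗[k] B) (he : IsIdempotentElem e) : e = 0 ∨ e = 1 := by
  classical
  obtain ⟨t, ht⟩ := NormalBC6.exists_finset_tensor (A := k) (A' := B) e
  let A₀ := Algebra.adjoin k (t : Set A)
  haveI : Algebra.FiniteType k A₀ := Algebra.FiniteType.adjoin_of_finite (Finset.finite_toSet _)
  let ι : A₀ ⊗[k] B →ₐ[k] A ⊗[k] B := Algebra.TensorProduct.map A₀.val (AlgHom.id k B)
  have hι : Function.Injective ι :=
    Module.Flat.rTensor_preserves_injective_linearMap (M := B) A₀.val.toLinearMap Subtype.val_injective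
  obtain ⟨(e₀ : A₀ ⊗[k] B), he₀⟩ := ht A₀.toSubmodule Algebra.subset_adjoin
  have he' : ι e₀ = e := he₀
  have hidem : IsIdempotentElem e₀ := hι (by rw [map_mul, he']; exact he)
  let ev (φ : A₀ →ₐ[k] k) : A₀ ⊗[k] B →ₐ[k] B :=
    (Algebra.TensorProduct.lid k B).toAlgHom.comp (Algebra.TensorProduct.map φ (AlgHom.id k B))
  let b := Module.Basis.ofVectorSpace k B
  let bA := Algebra.TensorProduct.basis A₀ b
  have key : ∀ (φ : A₀ →ₐ[k] k) z i, φ (bA.repr z i) = b.repr (ev φ z) i := by
    intro φ z i
    induction z with
    | zero => simp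
    | tmul a x => simp [ev, bA, Algebra.TensorProduct.basis_repr_tmul, mul_comm]
    | add x y hx hy => simp only [map_add, Finsupp.add_apply, hx, hy]
  let c := fun i => bA.repr e₀ i
  let r := fun i => algebraMap k A₀ (b.repr 1 i)
  have h0 : ∀ i j, c i * (c j - r j) = 0 := fun i j => GeomIrr.eq_zero_of_forall_algHom (k := k) fun φ => by
    rcases hB _ (hidem.map (ev φ)) with h | h
    · rw [map_mul, show φ (c i) = 0 by rw [key φ e₀ i, h, map_zero, Finsupp.coe_zero, Pi.zero_apply], zero_mul]
    · rw [map_mul, map_sub, show φ (c j) = b.repr 1 j by rw [key φ e₀ j, h], AlgHom.commutes]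
      simp
  by_cases hc : ∀ i, c i = 0
  · left
    have : e₀ = 0 := bA.repr.injective (Finsupp.ext fun i => by rw [map_zero]; exact hc i)
    rw [← he', this, map_zero]
  · right
    push Not at hc
    obtain ⟨i, hi⟩ := hc
    have : e₀ = 1 := bA.repr.injective (Finsupp.ext fun j => by
      have h1 : c j = r j := sub_eq_zero.1 ((mul_eq_zero.1 (h0 i j)).resolve_left hi)
      rw [show bA.repr e₀ j = r j from h1, Algebra.TensorProduct.one_def,
        Algebra.TensorProduct.basis_repr_tmul]
      simp [r, Algebra.smul_def])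
    rw [← he', this, map_one]

variable {k : Type u} [Field k] (S : Type u) [CommRing S] [Algebra k S]

theorem exists_level_algebraic (K : Type u) [Field K] [Algebra k K] [Algebra.IsAlgebraic k K]
    (s : Finset (K ⊗[k] S)) :
    ∃ L : IntermediateField k K, FiniteDimensional k L ∧
      Function.Injective (Algebra.TensorProduct.map L.val (AlgHom.id k S)) ∧
      (s : Set (K ⊗[k] S)) ⊆ Set.range (Algebra.TensorProduct.map L.val (AlgHom.id k S)) := by
  classical
  choose t ht using fun x : K ⊗[k] S => NormalBC6.exists_finset_tensor (A := k) (A' := S) x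
  let L : IntermediateField k K := IntermediateField.adjoin k ((s.biUnion t : Finset K) : Set K)
  haveI : FiniteDimensional k L :=
    IntermediateField.finiteDimensional_adjoin fun x _ => Algebra.IsIntegral.isIntegral x
  refine ⟨L, inferInstance,
    Module.Flat.rTensor_preserves_injective_linearMap (M := S) L.val.toLinearMap L.val.injective, fun x hx => ?_⟩
  obtain ⟨w, hw⟩ := ht x L.toSubalgebra.toSubmodule fun a ha =>
    IntermediateField.subset_adjoin k _ (Finset.mem_biUnion.2 ⟨x, hx, ha⟩)
  exact ⟨w, hw⟩

/-- A property of `AlgebraicClosure K ⊗ S` read on `K ⊗ S`. -/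
theorem exists_embedding (K : Type u) [Field K] [Algebra k K] :
    ∃ (_ : Algebra (AlgebraicClosure k) (AlgebraicClosure K))
      (j : K ⊗[k] S →ₐ[k] AlgebraicClosure K ⊗[AlgebraicClosure k] (AlgebraicClosure k ⊗[k] S)),
      Function.Injective j := by
  let kb := AlgebraicClosure k
  let K' := AlgebraicClosure K
  letI : Algebra kb K' := (IsAlgClosed.lift : kb →ₐ[k] K').toRingHom.toAlgebra
  haveI : IsScalarTower k kb K' := .of_algebraMap_eq fun x => ((IsAlgClosed.lift : kb →ₐ[k] K').commutes x).symm
  let e := (Algebra.TensorProduct.cancelBaseChange k kb K' K' S).symm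
  refine ⟨inferInstance, (e.toAlgHom.restrictScalars k).comp
    (Algebra.TensorProduct.map (IsScalarTower.toAlgHom k K K') (AlgHom.id k S)), ?_⟩
  exact e.injective.comp
    (Module.Flat.rTensor_preserves_injective_linearMap (M := S) (IsScalarTower.toAlgHom k K K').toLinearMap
      (algebraMap K K').injective)

/-- Geometric integrality is tested on finite extensions. -/
theorem isDomain_tensor_of_finite (h : ∀ (L : Type u) [Field L] [Algebra k L], Module.Finite k L → IsDomain (L ⊗[k] S))
    (K : Type u) [Field K] [Algebra k K] : IsDomain (K ⊗[k] S) := by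
  classical
  have hkb : IsDomain (AlgebraicClosure k ⊗[k] S) := by
    haveI : Nontrivial S := by
      haveI := h k inferInstance
      exact (Algebra.TensorProduct.lid k S).injective.nontrivial
    haveI : Nontrivial (AlgebraicClosure k ⊗[k] S) :=
      Algebra.TensorProduct.nontrivial_of_algebraMap_injective_of_flat_left k _ S
        (algebraMap k S).injective
    suffices NoZeroDivisors (AlgebraicClosure k ⊗[k] S) from NoZeroDivisors.to_isDomain _
    refine ⟨fun {x y} hxy => ?_⟩
    obtain ⟨L, hL, hinj, hsub⟩ := exists_level_algebraic S (AlgebraicClosure k) {x, y}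
    haveI := h L hL
    obtain ⟨x', rfl⟩ := hsub (by simp : x ∈ _)
    obtain ⟨y', rfl⟩ := hsub (by simp : y ∈ _)
    rw [← map_mul] at hxy
    rcases mul_eq_zero.1 (hinj (hxy.trans (map_zero _).symm)) with h | h
    · exact Or.inl (by rw [h, map_zero])
    · exact Or.inr (by rw [h, map_zero])
  obtain ⟨_, j, hj⟩ := exists_embedding (k := k) S K
  haveI := GeomIrr.isDomain_tensor (k := AlgebraicClosure k) (AlgebraicClosure K) (AlgebraicClosure k ⊗[k] S)
  exact hj.isDomain j

/-- Geometric connectedness is tested on finite extensions. -/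
theorem connectedSpace_tensor_of_finite [Nontrivial S]
    (h : ∀ (L : Type u) [Field L] [Algebra k L], Module.Finite k L →
      ∀ e : L ⊗[k] S, IsIdempotentElem e → e = 0 ∨ e = 1)
    (K : Type u) [Field K] [Algebra k K] : ConnectedSpace (PrimeSpectrum (K ⊗[k] S)) := by
  classical
  have hkb : ∀ e : AlgebraicClosure k ⊗[k] S, IsIdempotentElem e → e = 0 ∨ e = 1 := by
    intro e he
    obtain ⟨L, hL, hinj, hsub⟩ := exists_level_algebraic S (AlgebraicClosure k) {e}
    obtain ⟨e', rfl⟩ := hsub (by simp : e ∈ _)
    rcases h L hL e' (hinj (by rw [map_mul]; exact he)) with h1 | h1 <;> rw [h1]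
    · exact Or.inl (map_zero _)
    · exact Or.inr (map_one _)
  haveI : Nontrivial (K ⊗[k] S) :=
    Algebra.TensorProduct.nontrivial_of_algebraMap_injective_of_flat_left k K S
      (algebraMap k S).injective
  obtain ⟨_, j, hj⟩ := exists_embedding (k := k) S K
  refine WeilRes21.connectedSpace_of_idem fun e he => ?_
  rcases idem_tensor_of_isAlgClosed hkb (j e) (he.map j) with h1 | h1
  · exact Or.inl (hj (h1.trans (map_zero j).symm))
  · exact Or.inr (hj (h1.trans (map_one j).symm))

end Groth.Agent.HensFib6
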